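import Cfsg.Agent.Omega.Graph.Tool
import Cfsg.Agent.Omega.NoFF.LinesPlug

/-!
# Case NOFF: tool (*) for `P*(S)`

`S` a Sylow 2-subgroup of `G` of characteristic 2 type, no mutual pair (`¬ FF S`). For **every** subgroup `X` and
every set `𝒱` of modules `V_P`, `P ∈ P*(S)`, contained in a 2-subgroup `T ≤ S` normalised by `X` (`tool`), in
particular if `S ∩ X` is a Sylow 2-subgroup of `X` and `V_P ≤ O₂(X)` (`tool_o2`): `W = ⟨V^x : V ∈ 𝒱, x ∈ X⟩` is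
elementary abelian, `W ≤ T ∩ C_S(V)`, and `[Q, W, W] = 1` for every `X`-invariant `Q` normalising the `V ∈ 𝒱`.
-/

set_option autoImplicit false

namespace Cfsg.Agent.Omega.Graph.Plug

open Subgroup Cfsg Cfsg.Agent.ZN Cfsg.Agent.Omega.MinPar Cfsg.Agent.MinSimple.VModule
open Cfsg.Agent.Omega Cfsg.Agent.Omega.NoFF Cfsg.Agent.Omega.NoFF.Basic Cfsg.Agent.Omega.NoFF.LinesPlug
open Cfsg.Agent.Omega.Graph.Tool
open scoped Pointwise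

variable {G : Type*} [Group G] [Finite G]

/-- The modules `V_P`, `P ∈ P*(S)`. -/
def Vs (S : Subgroup G) : Set (Subgroup G) := (fun P => zl S P) '' PStar S

theorem noff (hG : IsCharacteristicTwoType G) (S : Sylow 2 G) (hF : ¬ FF (S : Subgroup G)) :
    Noff (S : Subgroup G) (Vs (S : Subgroup G)) := of_sys (sys hG S hF)

theorem noffN (hG : IsCharacteristicTwoType G) (S : Sylow 2 G) (hF : ¬ FF (S : Subgroup G)) :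
    NoffN (Vs (S : Subgroup G)) := NoffN.of_sys (sys hG S hF)

theorem Vs_sq (hG : IsCharacteristicTwoType G) (S : Sylow 2 G) :
    ∀ V ∈ Vs (S : Subgroup G), ∀ v ∈ V, v ^ 2 = 1 := by
  rintro _ ⟨P, hP, rfl⟩ v hv
  exact zc_sq _ _ ((IsParS.isLoc hP).zl_le S hG hv)

/-- **TOOL (*)** -/
theorem tool (hG : IsCharacteristicTwoType G) (S : Sylow 2 G) (hF : ¬ FF (S : Subgroup G)) {𝒱 : Set (Subgroup G)}
    (h𝒱 : 𝒱 ⊆ Vs (S : Subgroup G)) {X T : Subgroup G} (hX : X ≤ normalizer (T : Set G)) (hV : ∀ V ∈ 𝒱, V ≤ T)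
    (hT : T ≤ (S : Subgroup G)) :
    Wf X 𝒱 ≤ centralizer (Wf X 𝒱 : Set G) ∧ (∀ w ∈ Wf X 𝒱, w ^ 2 = 1) ∧ Wf X 𝒱 ≤ T ∧
      (∀ V ∈ 𝒱, Wf X 𝒱 ≤ (S : Subgroup G) ⊓ centralizer (V : Set G)) ∧
      ∀ Q : Subgroup G, X ≤ normalizer (Q : Set G) → (∀ V ∈ 𝒱, Q ≤ normalizer (V : Set G)) →
        Q ≤ normalizer (Wf X 𝒱 : Set G) ∧ ⁅⁅Q, Wf X 𝒱⁆, Wf X 𝒱⁆ = ⊥ := by
  have hc := ((noff hG S hF).mono h𝒱).cm hX hV hT
  exact ⟨hc.comm, hc.sq fun V hV' => Vs_sq hG S V (h𝒱 hV'), Wf_le_T hX hV, fun V hV' => hc.le_inf hX hV hT hV',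
    fun Q hXQ hQ => ⟨Tool.le_normalizer hXQ hQ, hc.quad hXQ hQ⟩⟩

/-- `O₂(X) ≤ S` if `S ∩ X` is a Sylow 2-subgroup of `X`. -/
theorem o2_le_S (S : Sylow 2 G) {X : Subgroup G} (hX : ¬ 2 ∣ ((S : Subgroup G) ⊓ X).relIndex X) :
    o2 X ≤ (S : Subgroup G) :=
  (o2_le_of_sylow (S.isPGroup'.to_le inf_le_left) hX).trans inf_le_left

/-- **TOOL (*)** for `T = O₂(X)`. -/
theorem tool_o2 (hG : IsCharacteristicTwoType G) (S : Sylow 2 G) (hF : ¬ FF (S : Subgroup G)) {𝒱 : Set (Subgroup G)}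
    (h𝒱 : 𝒱 ⊆ Vs (S : Subgroup G)) {X : Subgroup G} (hX : ¬ 2 ∣ ((S : Subgroup G) ⊓ X).relIndex X)
    (hV : ∀ V ∈ 𝒱, V ≤ o2 X) :
    Wf X 𝒱 ≤ centralizer (Wf X 𝒱 : Set G) ∧ (∀ w ∈ Wf X 𝒱, w ^ 2 = 1) ∧ Wf X 𝒱 ≤ o2 X ∧
      (∀ V ∈ 𝒱, Wf X 𝒱 ≤ (S : Subgroup G) ⊓ centralizer (V : Set G)) ∧
      ∀ Q : Subgroup G, X ≤ normalizer (Q : Set G) → (∀ V ∈ 𝒱, Q ≤ normalizer (V : Set G)) →
        Q ≤ normalizer (Wf X 𝒱 : Set G) ∧ ⁅⁅Q, Wf X 𝒱⁆, Wf X 𝒱⁆ = ⊥ :=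
  tool hG S hF h𝒱 (le_normalizer_o2 X) hV (o2_le_S S hX)

end Cfsg.Agent.Omega.Graph.Plug
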