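import Cfsg.Agent.Omega.NoFF.Lines

/-!
# Case NOFF: tool (*) (#11611 (1), (2), (3); referee #12061)

`𝒱` is a set of subgroups (to be a subset of `{V_P : P ∈ P*(S)}`, or `{⟨Z^{X*}⟩}`) such that two conjugates of
members commute if they lie in each other's chamber (`Noff S 𝒱`) or if they normalise each other (`NoffN 𝒱`).
`X` is **any** subgroup and `T` a subgroup normalised by `X` with `V ≤ T ≤ S` resp. `V ≤ T ≤ N(V)` for all
`V ∈ 𝒱`. Then (`Noff.cm`, `NoffN.cm`) all `V^x`, `V'^y`, `x, y ∈ X`, commute (`Cm X 𝒱`), and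
`W = ⟨V^x : V ∈ 𝒱, x ∈ X⟩` (`Wf X 𝒱`) satisfies

* `Cm.comm` : `W` is abelian, `Cm.sq` : of exponent 2 if all `V` are;
* `Wf_le_T` : `W ≤ T`; `Cm.le_inf` : `W ≤ C_S(V)` for all `V ∈ 𝒱`;
* `X_le_normalizer`, `le_normalizer` : `X` and every `Q` normalised by `X` and normalising the `V ∈ 𝒱` normalise `W`;
* `Cm.quad` : `[Q, W, W] = 1` for these `Q`.

`rank_bound` : the rank bound (1), abstractly; `Par.main` : (3), the parabolics `P_2`, `P_3` of a group of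
graph type: `⟨V^{P_i}⟩ Q = O_i`, `O_2 O_3 ≤ C_S(V) Q`.
-/

set_option autoImplicit false

namespace Cfsg.Agent.Omega.Graph.Tool

open Subgroup Cfsg.Agent.Omega.NoFF Cfsg.Agent.Omega.NoFF.Basic
open scoped Pointwise commutatorElement

variable {G : Type*} [Group G]

/-- Two conjugates of members of `𝒱` which lie in each other's chamber commute. -/
def Noff (S : Subgroup G) (𝒱 : Set (Subgroup G)) : Prop :=
  ∀ V ∈ 𝒱, ∀ V' ∈ 𝒱, ∀ g : G, V ≤ MulAut.conj g • S → MulAut.conj g • V' ≤ S →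
    V ≤ centralizer ((MulAut.conj g • V' : Subgroup G) : Set G)

/-- `⟨V^x : V ∈ 𝒱, x ∈ X⟩` -/
def Wf (X : Subgroup G) (𝒱 : Set (Subgroup G)) : Subgroup G :=
  ⨆ x : X, ⨆ V ∈ 𝒱, MulAut.conj (x : G) • V

section Wf

variable {X : Subgroup G} {𝒱 : Set (Subgroup G)}

theorem mem_le {V : Subgroup G} (hV : V ∈ 𝒱) {x : G} (hx : x ∈ X) : MulAut.conj x • V ≤ Wf X 𝒱 :=
  le_trans (le_iSup₂_of_le (f := fun (V : Subgroup G) (_ : V ∈ 𝒱) => MulAut.conj x • V) V hV le_rfl)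
    (le_iSup (fun x : X => ⨆ V ∈ 𝒱, MulAut.conj (x : G) • V) ⟨x, hx⟩)

theorem V_le {V : Subgroup G} (hV : V ∈ 𝒱) : V ≤ Wf X 𝒱 := by
  have := mem_le (X := X) hV X.one_mem
  rwa [map_one, one_smul] at this

theorem Wf_le {A : Subgroup G} (h : ∀ V ∈ 𝒱, ∀ x ∈ X, MulAut.conj x • V ≤ A) : Wf X 𝒱 ≤ A :=
  iSup_le fun x => iSup₂_le fun V hV => h V hV x x.2

/-- one generator -/
theorem Wf_singleton (X V : Subgroup G) : Wf X {V} = Basic.V V X := by
  apply le_antisymm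
  · refine Wf_le fun V' hV' x hx => ?_
    rw [Set.mem_singleton_iff] at hV'
    subst hV'
    exact Z_le_V hx
  · exact Basic.V_le fun x hx => mem_le (Set.mem_singleton V) hx

/-- `Wf` for the `V_P` is the `W` of `NoFF/Lines.lean`. -/
theorem Wf_image (Z X : Subgroup G) (F : Set (Subgroup G)) : Wf X ((fun P => Basic.V Z P) '' F) = Lines.W Z X F := by
  apply le_antisymm
  · refine Wf_le fun V' hV' x hx => ?_
    obtain ⟨P, hP, rfl⟩ := hV'
    exact Lines.line_le hP hx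
  · exact Lines.W_le fun P hP x hx => mem_le (Set.mem_image_of_mem _ hP) hx

theorem Wf_mono {X' : Subgroup G} {𝒱' : Set (Subgroup G)} (hX : X ≤ X') (h : 𝒱 ⊆ 𝒱') : Wf X 𝒱 ≤ Wf X' 𝒱' :=
  Wf_le fun _ hV _ hx => mem_le (h hV) (hX hx)

theorem Wf_conj {x : G} (hx : x ∈ X) : MulAut.conj x • Wf X 𝒱 = Wf X 𝒱 := by
  have key : ∀ x ∈ X, MulAut.conj x • Wf X 𝒱 ≤ Wf X 𝒱 := by
    intro x hx
    rw [Subgroup.pointwise_smul_subset_iff]
    refine Wf_le fun V hV y hy => ?_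
    rw [← Subgroup.pointwise_smul_subset_iff, conj_conj]
    exact mem_le hV (X.mul_mem hx hy)
  apply le_antisymm (key x hx)
  have := conj_le_iff (g := x) |>.2 (key x⁻¹ (X.inv_mem hx))
  rwa [conj_conj, mul_inv_cancel, map_one, one_smul] at this

theorem mem_normalizer_of_conj {B : Subgroup G} {x : G} (h : MulAut.conj x • B = B) : x ∈ normalizer (B : Set G) := by
  rw [mem_normalizer_iff]
  intro y
  constructor
  · intro hy
    rw [← h, mem_conj]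
    simpa [mul_assoc] using hy
  · intro hy
    rw [← h, mem_conj] at hy
    simpa [mul_assoc] using hy

theorem X_le_normalizer : X ≤ normalizer (Wf X 𝒱 : Set G) := fun _ hx => mem_normalizer_of_conj (Wf_conj hx)

theorem conj_eq {B : Subgroup G} {g : G} (hg : g ∈ normalizer (B : Set G)) : MulAut.conj g • B = B :=
  Main.conj_eq_of_mem_normalizer hg

/-- A subgroup normalised by `X` and normalising the `V ∈ 𝒱` normalises `⟨V^X⟩`. -/
theorem le_normalizer {Q : Subgroup G} (hX : X ≤ normalizer (Q : Set G)) (hQ : ∀ V ∈ 𝒱, Q ≤ normalizer (V : Set G)) :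
    Q ≤ normalizer (Wf X 𝒱 : Set G) := by
  have key : ∀ q ∈ Q, MulAut.conj q • Wf X 𝒱 ≤ Wf X 𝒱 := by
    intro q hq
    rw [Subgroup.pointwise_smul_subset_iff]
    refine Wf_le fun V hV x hx => ?_
    rw [← Subgroup.pointwise_smul_subset_iff, conj_conj]
    have h1 : x⁻¹ * q * x ∈ Q := by
      have := (mem_normalizer_iff.1 (hX (X.inv_mem hx)) q).1 hq
      rwa [inv_inv] at this
    have h2 : q * x = x * (x⁻¹ * q * x) := by group
    rw [h2, ← conj_conj, conj_eq (hQ V hV h1)]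
    exact mem_le hV hx
  intro q hq
  refine mem_normalizer_of_conj (le_antisymm (key q hq) ?_)
  have := conj_le_iff (g := q) |>.2 (key q⁻¹ (Q.inv_mem hq))
  rwa [conj_conj, mul_inv_cancel, map_one, one_smul] at this

end Wf

/-! ### Where `Noff` comes from -/

/-- The `V_P`. -/
theorem of_sys {S Z : Subgroup G} {F : Set (Subgroup G)} (D : Sys S Z F) : Noff S ((fun P => Basic.V Z P) '' F) := by
  rintro _ ⟨P, hP, rfl⟩ _ ⟨P', hP', rfl⟩ g h1 h2
  exact D.noff P hP P' hP' g (h1.trans (conj_le_iff.2 (D.SP P' hP'))) (h2.trans (D.SP P hP))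

/-- The group `⟨Z^{X*}⟩`. -/
theorem of_inv {S Z N : Subgroup G} {F : Set (Subgroup G)} (D : Sys S Z F) (h : Main.Inv S Z N F) :
    Noff S {Main.A Z N F} := by
  rintro V hV V' hV' g h1 h2
  rw [Set.mem_singleton_iff] at hV hV'
  subst hV
  subst hV'
  have := Main.comm_of_le D h (x := 1) (y := g) (by rwa [map_one, one_smul]) (by rwa [map_one, one_smul])
  rwa [map_one, one_smul] at this

/-- The conjugates `V^x`, `V'^y` (`x, y ∈ X`; `V, V' ∈ 𝒱`) commute. -/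
def Cm (X : Subgroup G) (𝒱 : Set (Subgroup G)) : Prop :=
  ∀ V ∈ 𝒱, ∀ V' ∈ 𝒱, ∀ x ∈ X, ∀ y ∈ X,
    MulAut.conj x • V ≤ centralizer ((MulAut.conj y • V' : Subgroup G) : Set G)

section

variable {S T X Q : Subgroup G} {𝒱 : Set (Subgroup G)}

/-- `W ≤ T` -/
theorem Wf_le_T (hX : X ≤ normalizer (T : Set G)) (hV : ∀ V ∈ 𝒱, V ≤ T) : Wf X 𝒱 ≤ T :=
  Wf_le fun V hV' x hx => by
    rw [← conj_eq (hX hx)]
    exact conj_le_iff.2 (hV V hV')

/-- `V^x ≤ T = T^y` -/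
theorem conj_le_conj (hX : X ≤ normalizer (T : Set G)) {V : Subgroup G} (hV : V ≤ T)
    {x y : G} (hx : x ∈ X) (hy : y ∈ X) : MulAut.conj x • V ≤ MulAut.conj y • T := by
  rw [conj_eq (hX hy), ← conj_eq (hX hx)]
  exact conj_le_iff.2 hV

/-- **TOOL (*)**, chamber form: `V ≤ T ≤ S`, `T` normalised by `X`. -/
theorem Noff.cm (D : Noff S 𝒱) (hX : X ≤ normalizer (T : Set G)) (hV : ∀ V ∈ 𝒱, V ≤ T) (hT : T ≤ S) : Cm X 𝒱 := by
  intro V hV1 V' hV2 x hx y hy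
  have h3 := D V hV1 V' hV2 (x⁻¹ * y) (by
    have := conj_le ((conj_le_conj hX (hV V hV1) hx hy).trans (conj_le_iff.2 hT)) x⁻¹
    rwa [inv_mul_cancel, map_one, one_smul] at this) (by
    have := conj_le ((conj_le_conj hX (hV V' hV2) hy hx).trans (conj_le_iff.2 hT)) x⁻¹
    rwa [inv_mul_cancel, map_one, one_smul] at this)
  have h4 := conj_le_centralizer (g := x) h3
  rwa [conj_conj, mul_inv_cancel_left] at h4

/-- Two conjugates of members of `𝒱` which normalise each other commute. -/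
def NoffN (𝒱 : Set (Subgroup G)) : Prop :=
  ∀ V ∈ 𝒱, ∀ V' ∈ 𝒱, ∀ g h : G, MulAut.conj g • V ≤ normalizer ((MulAut.conj h • V' : Subgroup G) : Set G) →
    MulAut.conj h • V' ≤ normalizer ((MulAut.conj g • V : Subgroup G) : Set G) →
    MulAut.conj g • V ≤ centralizer ((MulAut.conj h • V' : Subgroup G) : Set G)

/-- **TOOL (*)**, normaliser form: `V ≤ T ≤ N(V)`, `T` normalised by `X`. -/
theorem NoffN.cm (D : NoffN 𝒱) (hX : X ≤ normalizer (T : Set G)) (hV : ∀ V ∈ 𝒱, V ≤ T)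
    (hT : ∀ V ∈ 𝒱, T ≤ normalizer (V : Set G)) : Cm X 𝒱 := by
  have key : ∀ V ∈ 𝒱, ∀ V' ∈ 𝒱, ∀ x ∈ X, ∀ y ∈ X,
      MulAut.conj x • V ≤ normalizer ((MulAut.conj y • V' : Subgroup G) : Set G) := by
    intro V hV1 V' hV2 x hx y hy
    rw [Main.normalizer_conj]
    exact (conj_le_conj hX (hV V hV1) hx hy).trans (conj_le_iff.2 (hT V' hV2))
  exact fun V hV1 V' hV2 x hx y hy => D V hV1 V' hV2 x y (key V hV1 V' hV2 x hx y hy) (key V' hV2 V hV1 y hy x hx)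

theorem NoffN.mono {𝒱' : Set (Subgroup G)} (D : NoffN 𝒱) (h : 𝒱' ⊆ 𝒱) : NoffN 𝒱' :=
  fun V hV V' hV' => D V (h hV) V' (h hV')

theorem Noff.mono {𝒱' : Set (Subgroup G)} (D : Noff S 𝒱) (h : 𝒱' ⊆ 𝒱) : Noff S 𝒱' :=
  fun V hV V' hV' => D V (h hV) V' (h hV')

namespace Cm

variable (D : Cm X 𝒱)
include D

/-- `⟨V^X⟩` is abelian. -/
theorem comm : Wf X 𝒱 ≤ centralizer (Wf X 𝒱 : Set G) :=
  Wf_le fun V hV1 x hx => comm_symm (Wf_le fun V' hV2 y hy => comm_symm (D V hV1 V' hV2 x hx y hy))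

theorem le_centralizer {V : Subgroup G} (hV : V ∈ 𝒱) : Wf X 𝒱 ≤ centralizer (V : Set G) :=
  D.comm.trans (centralizer_le (V_le hV))

/-- `⟨V^X⟩ ≤ C_S(V)` -/
theorem le_inf (hX : X ≤ normalizer (T : Set G)) (hV : ∀ V ∈ 𝒱, V ≤ T) (hT : T ≤ S) {V : Subgroup G} (hV' : V ∈ 𝒱) :
    Wf X 𝒱 ≤ S ⊓ centralizer (V : Set G) :=
  _root_.le_inf ((Wf_le_T hX hV).trans hT) (D.le_centralizer hV')

/-- `⟨V^X⟩` has exponent 2. -/
theorem sq (h2 : ∀ V ∈ 𝒱, ∀ v ∈ V, v ^ 2 = 1) : ∀ w ∈ Wf X 𝒱, w ^ 2 = 1 := by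
  refine Lines.Geo.sq_of_comm D.comm (ι := X × 𝒱)
    (B := fun i => MulAut.conj (i.1 : G) • (i.2 : Subgroup G)) (fun i => mem_le i.2.2 i.1.2)
    (Wf_le fun V hV x hx => ?_) fun i => Lines.Geo.conj_sq (h2 _ i.2.2) _
  exact le_iSup (fun i : X × 𝒱 => MulAut.conj (i.1 : G) • (i.2 : Subgroup G)) (⟨x, hx⟩, ⟨V, hV⟩)

/-- `[Q, W, W] = 1` for every `Q = Q^X` normalising the `V ∈ 𝒱`. -/
theorem quad (hXQ : X ≤ normalizer (Q : Set G)) (hQ : ∀ V ∈ 𝒱, Q ≤ normalizer (V : Set G)) :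
    ⁅⁅Q, Wf X 𝒱⁆, Wf X 𝒱⁆ = ⊥ := by
  rw [commutator_eq_bot_iff_le_centralizer]
  exact (le_normalizer_iff_commutator_le_right.1 (le_normalizer hXQ hQ)).trans D.comm

/-- `[Q, W, W] = 1`, elementwise. -/
theorem quad_mem (hXQ : X ≤ normalizer (Q : Set G)) (hQ : ∀ V ∈ 𝒱, Q ≤ normalizer (V : Set G)) {q w w' : G}
    (hq : q ∈ Q) (hw : w ∈ Wf X 𝒱) (hw' : w' ∈ Wf X 𝒱) : ⁅⁅q, w⁆, w'⁆ = 1 := by
  have := D.quad hXQ hQ
  rw [← mem_bot, ← this]
  exact commutator_mem_commutator (commutator_mem_commutator hq hw) hw'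

end Cm

/-- The `V_P`, normaliser form. -/
theorem NoffN.of_sys [Finite G] {p : ℕ} [Fact p.Prime] {S : Sylow p G} {Z : Subgroup G} {F : Set (Subgroup G)}
    (D : Sys (S : Subgroup G) Z F) : NoffN ((fun P => Basic.V Z P) '' F) := by
  rintro _ ⟨P, hP, rfl⟩ _ ⟨P', hP', rfl⟩ g h h1 h2
  exact Lines.noff_lines D hP hP' h1 h2

/-- `⟨Z^{X*}⟩`, normaliser form. -/
theorem NoffN.of_inv [Finite G] {p : ℕ} [Fact p.Prime] {S : Sylow p G} {Z N : Subgroup G} {F : Set (Subgroup G)}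
    (D : Sys (S : Subgroup G) Z F) (h : Main.Inv (S : Subgroup G) Z N F)
    (hS : (S : Subgroup G) ≤ normalizer (Main.A Z N F : Set G)) : NoffN {Main.A Z N F} := by
  intro V hV V' hV' g k h1 h2
  rw [Set.mem_singleton_iff] at hV hV'
  subst hV
  subst hV'
  have h3 := Main.comm_of_le_normalizer D h hS (g := g⁻¹ * k) (by
    rw [Main.normalizer_conj] at h2
    have := conj_le_iff (g := g⁻¹) |>.2 h2
    rwa [conj_conj, conj_conj, inv_mul_cancel, map_one, one_smul] at this) (by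
    rw [Main.normalizer_conj] at h1
    have := conj_le_iff (g := g⁻¹) |>.2 h1
    rwa [conj_conj, conj_conj, inv_mul_cancel, map_one, one_smul, ← Main.normalizer_conj] at this)
  have h4 := conj_le_centralizer (g := g) h3
  rwa [conj_conj, mul_inv_cancel_left] at h4

end

/-! ### Groups of graph type -/

section

/-- **(1)** RANK BOUND, abstractly: `U ⊴ B`, `s ∈ B` with `O₂^s = O₃`; every elementary abelian subgroup of
`U` lies in `O₂` or in `O₃`; the elements of `B` which act trivially on `U/(O₂ ∩ O₃)` lie in `U`. Then every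
elementary abelian normal subgroup of `B` lies in `O₂ ∩ O₃`. -/
theorem rank_bound {B U O₂ O₃ A : Subgroup G} {s : G} (hs : s ∈ B) (h23 : MulAut.conj s • O₂ = O₃)
    (hUB : U ≤ B) (hU : B ≤ normalizer (U : Set G))
    (hel : ∀ E : Subgroup G, E ≤ U → E ≤ centralizer (E : Set G) → (∀ e ∈ E, e ^ 2 = 1) → E ≤ O₂ ∨ E ≤ O₃)
    (hout : ∀ b ∈ B, (∀ u ∈ U, b * u * b⁻¹ * u⁻¹ ∈ O₂ ⊓ O₃) → b ∈ U)
    (hAB : A ≤ B) (hA : B ≤ normalizer (A : Set G)) (hAc : A ≤ centralizer (A : Set G))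
    (hA2 : ∀ a ∈ A, a ^ 2 = 1) : A ≤ O₂ ⊓ O₃ := by
  -- every such group inside `U`
  have key : ∀ E : Subgroup G, E ≤ U → E ≤ A → B ≤ normalizer (E : Set G) → E ≤ O₂ ⊓ O₃ := by
    intro E hEU hEA hE
    have hEs : MulAut.conj s • E = E := conj_eq (hE hs)
    rcases hel E hEU (hEA.trans (hAc.trans (centralizer_le hEA))) fun e he => hA2 e (hEA he) with h | h
    · refine _root_.le_inf h ?_
      rw [← hEs, ← h23]
      exact conj_le_iff.2 h
    · refine _root_.le_inf ?_ h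
      rw [← hEs, ← h23] at h
      exact conj_le_iff.1 h
  have h1 : A ⊓ U ≤ O₂ ⊓ O₃ := by
    refine key _ inf_le_right inf_le_left ?_
    intro b hb
    rw [mem_normalizer_iff]
    intro x
    have h3 := mem_normalizer_iff.1 (hA hb) x
    have h4 := mem_normalizer_iff.1 (hU hb) x
    exact ⟨fun hx => ⟨h3.1 hx.1, h4.1 hx.2⟩, fun hx => ⟨h3.2 hx.1, h4.2 hx.2⟩⟩
  intro a ha
  refine h1 (mem_inf.2 ⟨ha, hout a (hAB ha) fun u hu => h1 (mem_inf.2 ⟨?_, ?_⟩)⟩)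
  · have h2 := (mem_normalizer_iff.1 (hA (hUB hu)) a⁻¹).1 (A.inv_mem ha)
    have h3 := A.mul_mem ha h2
    simpa only [mul_assoc] using h3
  · exact U.mul_mem ((mem_normalizer_iff.1 (hU (hAB ha)) u).1 hu) (U.inv_mem hu)

/-- The parabolics of a group of graph type (preimages): `Oᵢ ≤ S` normal in `Pᵢ`, `Q ≤ O₂ ∩ O₃` normal in `Pᵢ`,
`s ∈ S` swaps `X₂`, `X₃`, and every `Pᵢ`-invariant subgroup between `Q` and `Oᵢ` is `Oᵢ` or lies in `Xᵢ`
(`Xᵢ = Q` for `SL₃(q)`, `Xᵢ` a root group for `Sp₄(q)`). -/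
structure Par (S Q : Subgroup G) (s : G) (P O Y : Bool → Subgroup G) : Prop where
  nO : ∀ i, P i ≤ normalizer (O i : Set G)
  nQ : ∀ i, P i ≤ normalizer (Q : Set G)
  QO : ∀ i, Q ≤ O i
  OS : ∀ i, O i ≤ S
  OP : ∀ i, O i ≤ P i
  irr : ∀ i, ∀ W : Subgroup G, Q ≤ W → W ≤ O i → P i ≤ normalizer (W : Set G) → W = O i ∨ W ≤ Y i
  sS : s ∈ S
  swap : MulAut.conj s • Y false = Y true
  inf : Y false ⊓ Y true ≤ Q

namespace Par

variable {S Q V : Subgroup G} {s : G} {P O Y : Bool → Subgroup G}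

/-- **(3)** If `V` is normal in `S`, `V ≤ O₂ ∩ O₃` and `V ≰ Q`, then `⟨V^{Pᵢ}⟩ Q = Oᵢ`. -/
theorem sup_eq (h : Par S Q s P O Y) (hSV : S ≤ normalizer (V : Set G)) (hV : ∀ i, V ≤ O i) (hVQ : ¬ V ≤ Q) (i : Bool) :
    Wf (P i) {V} ⊔ Q = O i := by
  have h1 : ∀ i, V ≤ Wf (P i) {V} ⊔ Q := fun i => (V_le (Set.mem_singleton V)).trans le_sup_left
  have hWO : ∀ i, Wf (P i) {V} ≤ O i := fun i => Wf_le_T (h.nO i) fun V' hV' => by
    rw [Set.mem_singleton_iff] at hV'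
    subst hV'
    exact hV i
  have h2 : ∀ i, Wf (P i) {V} ⊔ Q = O i ∨ Wf (P i) {V} ⊔ Q ≤ Y i := fun i => by
    refine h.irr i _ le_sup_right (sup_le (hWO i) (h.QO i)) ?_
    intro x hx
    refine mem_normalizer_of_conj ?_
    rw [Subgroup.smul_sup, Wf_conj hx, conj_eq (h.nQ i hx)]
  rcases h2 i with h3 | h3
  · exact h3
  · exfalso
    apply hVQ
    have h4 : V ≤ Y i := (h1 i).trans h3
    have hs := conj_eq (hSV h.sS)
    refine le_trans ?_ h.inf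
    cases i
    · refine _root_.le_inf h4 ?_
      rw [← h.swap, ← hs]
      exact conj_le_iff.2 h4
    · refine _root_.le_inf ?_ h4
      rw [← h.swap, ← hs] at h4
      exact conj_le_iff.1 h4

/-- **(3)** `⟨V^{Pᵢ}⟩` is abelian, in `C_S(V)`, and covers `Oᵢ/Q`; `O₂O₃ ≤ C_S(V) Q`; `[Q, Oᵢ, Oᵢ] ≤ ...`. -/
theorem main {𝒱 : Set (Subgroup G)} (D : Noff S 𝒱) (h : Par S Q s P O Y) (hV' : V ∈ 𝒱)
    (hSV : S ≤ normalizer (V : Set G)) (hV : ∀ i, V ≤ O i) (hVQ : ¬ V ≤ Q) :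
    (∀ i, Wf (P i) {V} ≤ centralizer (Wf (P i) {V} : Set G)) ∧ (∀ i, Wf (P i) {V} ≤ S ⊓ centralizer (V : Set G)) ∧
      (∀ i, Wf (P i) {V} ⊔ Q = O i) ∧ O false ⊔ O true ≤ (S ⊓ centralizer (V : Set G)) ⊔ Q ∧
      ∀ i, ⁅⁅Q, Wf (P i) {V}⁆, Wf (P i) {V}⁆ = ⊥ := by
  have hcm : ∀ i, Cm (P i) {V} := fun i =>
    (D.mono (Set.singleton_subset_iff.2 hV')).cm (h.nO i) (fun V' hV' => by
      rw [Set.mem_singleton_iff] at hV'
      subst hV'
      exact hV i) (h.OS i)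
  have hle : ∀ i, Wf (P i) {V} ≤ S ⊓ centralizer (V : Set G) := fun i =>
    (hcm i).le_inf (h.nO i) (fun V' hV' => by
      rw [Set.mem_singleton_iff] at hV'
      subst hV'
      exact hV i) (h.OS i) (Set.mem_singleton V)
  have hsup := h.sup_eq hSV hV hVQ
  refine ⟨fun i => (hcm i).comm, hle, hsup, ?_, fun i => (hcm i).quad (h.nQ i) fun V' hV' => ?_⟩
  · rw [← hsup false, ← hsup true]
    exact sup_le (sup_le_sup_right (hle _) _) (sup_le_sup_right (hle _) _)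
  · rw [Set.mem_singleton_iff] at hV'
    subst hV'
    exact ((h.QO i).trans (h.OS i)).trans hSV

end Par

end

end Cfsg.Agent.Omega.Graph.Tool
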